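import Cfsg.Agent.H933.OZ.Fin

/-!
# A congruence from an abelian subgroup of order eight (helper933, for S4842)

`z, a, b` commuting involutions, `c` maps `a` to `z a` and fixes `b`, `d` maps `b` to `z b` and fixes `a`
(conjugation): `χ(1) - χ(z) = 8 m`, where `m` is a multiplicity.
-/

set_option autoImplicit false

namespace Cfsg.Agent.H933.OZ

open Cfsg Cfsg.Agent.Characters Cfsg.Agent.CharactersDeep Cfsg.Agent.H732.VZ Finset
open Cfsg.Agent.H686.CharKit

universe u

variable {G : Type u} [Group G]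

theorem idem_half {A : Type*} [Ring A] [Algebra ℂ A] {s : A} (hs : s * s = 1) :
    IsIdempotentElem ((2⁻¹ : ℂ) • (1 + s)) := by
  unfold IsIdempotentElem
  rw [smul_mul_smul_comm]
  have h1 : (1 + s) * (1 + s) = (2 : ℂ) • (1 + s) := by
    rw [mul_add, add_mul, add_mul, hs, one_mul, mul_one, one_mul, two_smul]
    abel
  rw [h1, smul_smul]
  norm_num

theorem idem_three {A : Type*} [Ring A] [Algebra ℂ A] {x y w : A} (hx : x * x = 1) (hy : y * y = 1)
    (hw : w * w = 1) (hxy : Commute x y) (hxw : Commute x w) (hyw : Commute y w) :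
    IsIdempotentElem ((8⁻¹ : ℂ) • (1 + y + w + y * w - x - x * y - x * w - x * (y * w))) := by
  have hx' : (-x) * (-x) = 1 := by rw [neg_mul_neg, hx]
  have i1 := idem_half hx'
  have i2 := idem_half hy
  have i3 := idem_half hw
  have c1 : Commute ((2⁻¹ : ℂ) • (1 + y)) ((2⁻¹ : ℂ) • (1 + w)) :=
    (((Commute.one_left _).add_left ((Commute.one_right _).add_right hyw)).smul_left (2⁻¹ : ℂ)).smul_right
      (2⁻¹ : ℂ)
  have c2 : Commute ((2⁻¹ : ℂ) • (1 + -x)) ((2⁻¹ : ℂ) • (1 + y)) :=
    (((Commute.one_left _).add_left ((Commute.one_right _).add_right hxy.neg_left)).smul_left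
      (2⁻¹ : ℂ)).smul_right (2⁻¹ : ℂ)
  have c3 : Commute ((2⁻¹ : ℂ) • (1 + -x)) ((2⁻¹ : ℂ) • (1 + w)) :=
    (((Commute.one_left _).add_left ((Commute.one_right _).add_right hxw.neg_left)).smul_left
      (2⁻¹ : ℂ)).smul_right (2⁻¹ : ℂ)
  have h1 := IsIdempotentElem.mul_of_commute (c2.mul_right c3) i1 (IsIdempotentElem.mul_of_commute c1 i2 i3)
  have h2 : ((2⁻¹ : ℂ) • (1 + -x)) * (((2⁻¹ : ℂ) • (1 + y)) * ((2⁻¹ : ℂ) • (1 + w)))
      = (8⁻¹ : ℂ) • (1 + y + w + y * w - x - x * y - x * w - x * (y * w)) := by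
    rw [smul_mul_smul_comm, smul_mul_smul_comm]
    congr 1
    · norm_num
    · noncomm_ring
  rwa [h2] at h1

theorem trace_idem {V : Type*} [AddCommGroup V] [Module ℂ V] [Module.Finite ℂ V] {P : Module.End ℂ V}
    (hP : IsIdempotentElem P) : ∃ m : ℕ, LinearMap.trace ℂ V P = m :=
  ⟨_, (LinearMap.IsIdempotentElem.isProj_range P hP).trace⟩

theorem eight_dvd {χ : G → ℂ} (hχ : IsCharacter G χ) {z a b c d : G} (hz : z * z = 1)
    (ha : a * a = 1) (hb : b * b = 1) (hza : z * a = a * z) (hzb : z * b = b * z) (hab : a * b = b * a)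
    (hca : c * a = z * a * c) (hcb : c * b = b * c) (hdb : d * b = z * b * d) :
    ∃ m : ℕ, χ 1 - χ z = 8 * m := by
  obtain ⟨n, ρ, rfl⟩ := hχ
  have conj : ∀ u v w : G, u * v = w * u → ρ.character v = ρ.character w := by
    intro u v w h
    have h1 : w = u * v * u⁻¹ := by rw [h]; group
    rw [h1, Representation.char_conj]
  have e1 : ρ.character a = ρ.character (z * a) := conj c _ _ hca
  have e2 : ρ.character b = ρ.character (z * b) := conj d _ _ hdb
  have e3 : ρ.character (a * b) = ρ.character (z * (a * b)) := by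
    refine conj c _ _ ?_
    calc c * (a * b) = c * a * b := (mul_assoc _ _ _).symm
      _ = z * a * (c * b) := by rw [hca]; group
      _ = z * (a * b) * c := by rw [hcb]; group
  obtain ⟨m, hm⟩ := trace_idem (idem_three (x := ρ z) (y := ρ a) (w := ρ b)
    (by rw [← map_mul, hz, map_one]) (by rw [← map_mul, ha, map_one]) (by rw [← map_mul, hb, map_one])
    (by unfold Commute SemiconjBy; rw [← map_mul, hza, map_mul])
    (by unfold Commute SemiconjBy; rw [← map_mul, hzb, map_mul])
    (by unfold Commute SemiconjBy; rw [← map_mul, hab, map_mul]))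
  refine ⟨m, ?_⟩
  rw [← map_mul, ← map_mul, ← map_mul, ← map_mul, ← map_one ρ, map_smul, map_sub, map_sub, map_sub, map_sub,
    map_add, map_add, map_add, smul_eq_mul] at hm
  change (8⁻¹ : ℂ) * (ρ.character 1 + ρ.character a + ρ.character b + ρ.character (a * b) - ρ.character z
    - ρ.character (z * a) - ρ.character (z * b) - ρ.character (z * (a * b))) = m at hm
  rw [← e1, ← e2, ← e3] at hm
  rw [← hm]
  ring

end Cfsg.Agent.H933.OZ
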