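import Cfsg.Agent.H933.OZ.U42Data
import Cfsg.Agent.H933.OZ.Ext
import Cfsg.Agent.H730.OZ.Asm
import Cfsg.Agent.SporadicStructure.PsuMatch
import Cfsg.Agent.S0277
import Cfsg.Agent.S0283

/-!
# S4842: the row `U_4(2)` (helper933)
-/

set_option autoImplicit false

namespace Cfsg.Agent.H933.OZ.U42

open Cfsg Cfsg.Agent.Characters Cfsg.Agent.CharactersDeep Cfsg.Agent.H732.VZ Orb Cyc
open Cfsg.Agent.H686.CharKit Cfsg.Agent.SporadicA.FieldFour

theorem card_GU : Nat.card (GU 4 F4 2) = 77760 := by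
  have h := S0277.result hF 4
  norm_num [Finset.prod_range_succ, Nat.even_iff] at h
  exact h

instance simp4 : IsSimpleGroup (PSU 4 F4 2) := Cfsg.Agent.S0283.result hF 4 (by norm_num) (by omega)

theorem not_comm : ¬ IsMulCommutative (PSU 4 F4 2) := by
  intro h
  let _ : CommGroup (PSU 4 F4 2) := { mul_comm := fun a b => h.is_comm.comm a b }
  have h1 : (Nat.card (PSU 4 F4 2)).Prime := IsSimpleGroup.prime_card
  rw [card_G] at h1
  exact absurd h1 (by norm_num)

theorem four_le_c {χ : IrrCharacter (PSU 4 F4 2)} {x : PSU 4 F4 2} (h : One χ x) :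
    4 ≤ Nat.card (Subgroup.centralizer ({x} : Set (PSU 4 F4 2))) :=
  four_le (by rw [card_G]; norm_num) (by rw [card_G]; norm_num) h

/-- even degree -/
theorem even {χ : IrrCharacter (PSU 4 F4 2)} {x : PSU 4 F4 2} (h : One χ x)
    (hd : 2 ∣ charDegree (χ : PSU 4 F4 2 → ℂ)) : ∃ y ∈ orb u4, IsConj x y := by
  by_contra hcon
  push Not at hcon
  have h1 := u4_dat.cost h hcon (k := 3) fun y hy =>
    le_trans (by norm_num) (u4_dat.sq_le u4_rat Nat.prime_two h hcon hd hy)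
  rw [card_GU, card_G] at h1
  have h2 := four_le_c h
  omega

/-- the degree is not divisible by three -/
theorem three {χ : IrrCharacter (PSU 4 F4 2)} {x : PSU 4 F4 2} (h : One χ x) :
    ¬ 3 ∣ charDegree (χ : PSU 4 F4 2 → ℂ) := by
  intro hd
  have hcon : ∀ y ∈ orb t9, ¬ IsConj x y := by
    intro y hy hxy
    have hm : (Nat.card (PSU 4 F4 2) - 1).Coprime (Nat.card (PSU 4 F4 2)) := by
      rw [card_G]; norm_num
    have h1 : IsConj x (x ^ (Nat.card (PSU 4 F4 2) - 1)) := h.conj_pow hm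
    have h2 : x ^ (Nat.card (PSU 4 F4 2) - 1) = x⁻¹ := by
      rw [eq_inv_iff_mul_eq_one, ← pow_succ, Nat.sub_add_cancel Nat.card_pos]
      exact pow_card_eq_one'
    rw [h2] at h1
    obtain ⟨c, hc⟩ := isConj_iff.1 hxy
    have h3 : IsConj x⁻¹ y⁻¹ := isConj_iff.2 ⟨c, by rw [← hc]; group⟩
    exact t9_inv hy (mem_orb_of_isConj hy (hxy.symm.trans (h1.trans h3)))
  have hs : ∀ a : ℕ, 0 < a → a < 3 →
      ¬ ((3 : ℕ) : ℤ) ∣ (a : ℤ) - (charDegree (χ : PSU 4 F4 2 → ℂ) : ℤ) ^ 2 := by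
    intro a ha0 ha3 hdv
    have h1 : ((3 : ℕ) : ℤ) ∣ (charDegree (χ : PSU 4 F4 2 → ℂ) : ℤ) ^ 2 :=
      Dvd.dvd.pow (by exact_mod_cast hd) two_ne_zero
    have h2 : ((3 : ℕ) : ℤ) ∣ (a : ℤ) := by simpa using dvd_add hdv h1
    omega
  have h1 := t9_dat.cost_two (fun y hy => t9_inv hy) h hcon (k := 2) fun y hy =>
    le_trans (by norm_num) (t9_dat.le_normSq Nat.prime_three h hcon hs hy)
  rw [card_GU, card_G] at h1
  have h2 := four_le_c h
  omega

theorem y6_ne3 : pr y6 ^ 3 ≠ 1 := by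
  intro h
  rw [← map_pow, ← map_one pr] at h
  obtain ⟨c, hc⟩ := smul_of_pr_eq hF (by norm_num) h
  rw [sm_pow, sm_y6, y6_p3] at hc
  revert c
  decide +kernel

/-- no character of degree five -/
theorem five {χ : IrrCharacter (PSU 4 F4 2)} {x : PSU 4 F4 2} (h : One χ x)
    (hx5 : x ^ 5 = 1) (hd : charDegree (χ : PSU 4 F4 2 → ℂ) = 5) : False := by
  have hx1 := H604.OZ.ne_one h
  have hcon : ∀ y ∈ orb y6, ¬ IsConj x y := by
    intro y hy hxy
    have h1 := pow_eq_one_of_isConj hxy (y6_dat.pow y hy)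
    apply hx1
    have h2 : orderOf x ∣ Nat.gcd 5 6 :=
      Nat.dvd_gcd (orderOf_dvd_of_pow_eq_one hx5) (orderOf_dvd_of_pow_eq_one h1)
    rwa [show Nat.gcd 5 6 = 1 from rfl, Nat.dvd_one, orderOf_eq_one_iff] at h2
  have key : ∀ y ∈ orb y6, ∃ a : ℤ, (χ : PSU 4 F4 2 → ℂ) y = a ∧ 3 ∣ a := by
    intro y hy
    obtain ⟨a, ha⟩ := exists_int_of_conj χ (y6_rat y hy)
    refine ⟨a, ha, ?_⟩
    obtain ⟨g, rfl⟩ := mem_orb.1 hy
    have hcg : ∀ s t : SU 4 F4 2, s = t → pr (cg g s) = pr (cg g t) := fun s t hst => by rw [hst]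
    have hz3 : pr (cg g y6) ^ 3 = pr (cg g zz) := by rw [zz, map_pow, map_pow]
    obtain ⟨m, hm⟩ := eight_dvd (Core.isIrr_isCharacter χ.2) (z := pr (cg g zz)) (a := pr (cg g a1))
      (b := pr (cg g a2)) (c := pr (cg g b1)) (d := pr (cg g b2))
      (by rw [← map_mul, ← map_mul, zz_sq, map_one, map_one])
      (by rw [← map_mul, ← map_mul, a1_sq, map_one, map_one])
      (by rw [← map_mul, ← map_mul, a2_sq, map_one, map_one])
      (by rw [← map_mul, ← map_mul, zz_a1, map_mul, map_mul])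
      (by rw [← map_mul, ← map_mul, zz_a2, map_mul, map_mul])
      (by rw [← map_mul, ← map_mul, a1_a2, map_mul, map_mul])
      (by rw [← map_mul, ← map_mul, b1_a1, map_mul, map_mul, map_mul, map_mul])
      (by rw [← map_mul, ← map_mul, b1_a2, map_mul, map_mul])
      (by rw [← map_mul, ← map_mul, b2_a2, map_mul, map_mul, map_mul, map_mul])
    have hne : pr (cg g zz) ≠ 1 := by
      rw [← hz3]
      exact pow_ne_one y6_ne3 hy
    have hdeg : (χ : PSU 4 F4 2 → ℂ) 1 = 5 := by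
      rw [← charDegree_irr χ, hd]; norm_num
    have hval : (χ : PSU 4 F4 2 → ℂ) (pr (cg g zz)) = ((5 - 8 * (m : ℤ) : ℤ) : ℂ) := by
      push_cast
      rw [hdeg] at hm
      linear_combination -hm
    have hnorm := norm_ne not_comm χ h.zero hne
    have hle : ‖(χ : PSU 4 F4 2 → ℂ) (pr (cg g zz))‖ ≤ 5 := by
      obtain ⟨k, ρ, hρ, hk⟩ := χ.2
      have h3 := charDegree_irr χ
      rw [← hk, Representation.char_one] at h3
      have h4 : charDegree (χ : PSU 4 F4 2 → ℂ) = Module.finrank ℂ (Fin k → ℂ) := by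
        rw [← hk]; exact_mod_cast h3
      have h5 := Values.norm_character_le ρ (pr (cg g zz))
      rw [← h4, hd] at h5
      rw [← hk]
      exact_mod_cast h5
    have hm1 : m = 1 := by
      rw [hval, Complex.norm_intCast] at hnorm hle
      have h3 : |5 - 8 * (m : ℤ)| ≤ 5 := by exact_mod_cast hle
      rw [abs_le] at h3
      have h4 : m ≤ 1 := by omega
      rcases Nat.le_one_iff_eq_zero_or_eq_one.1 h4 with rfl | h5
      · exfalso
        apply hnorm
        rw [hd]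
        norm_num
      · exact h5
    rw [hm1] at hval
    have h5 := dvd_sub_int Nat.prime_three χ (g := pr (cg g y6)) (s := pr (cg g zz)) (j := 3) (k := 1) hz3
      (by
        have h6 : pr (cg g y6) ^ 6 = 1 := y6_dat.pow _ hy
        rw [← hz3, pow_one]
        calc (pr (cg g y6) ^ 3) ^ 3 = pr (cg g y6) ^ 6 * pr (cg g y6) ^ 3 := by
              rw [← pow_mul, ← pow_add]
          _ = _ := by rw [h6, one_mul]) ha hval
    omega
  have h1 := y6_dat.cost h hcon (k := 8) fun y hy => by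
    obtain ⟨a, ha, h3⟩ := key y hy
    have h0 : a ≠ 0 := by
      rintro rfl
      exact hcon y hy (h.uniq y (by rw [ha, Int.cast_zero]))
    have h2 : (3 : ℤ) ≤ |a| := Int.le_of_dvd (abs_pos.2 h0) ((dvd_abs _ _).2 h3)
    have h4 : Complex.normSq ((χ : PSU 4 F4 2 → ℂ) y) = ((a : ℝ)) ^ 2 := by
      rw [ha, Complex.normSq_intCast]
      ring
    rw [h4, ← sq_abs (a : ℝ)]
    have h5 : (3 : ℝ) ≤ |(a : ℝ)| := by exact_mod_cast h2
    push_cast
    nlinarith
  rw [card_GU, card_G] at h1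
  have h2 := four_le_c h
  omega

theorem none {χ : IrrCharacter (PSU 4 F4 2)} {x : PSU 4 F4 2} (h : One χ x) : False := by
  have hd1 := H604.OZ.one_lt_deg h
  have hdvd := H604.OZ.deg_dvd χ
  have hfac : Nat.card (PSU 4 F4 2) = 2 ^ 6 * 3 ^ 4 * 5 := by rw [card_G]; norm_num
  have hmem : ∀ r : ℕ, r.Prime → r ∣ charDegree (χ : PSU 4 F4 2 → ℂ) → r = 2 ∨ r = 5 := by
    intro r hr hrd
    have h1 := hrd.trans hdvd
    rw [hfac] at h1
    simp only [hr.dvd_mul] at h1
    rcases h1 with (h1 | h1) | h1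
    · exact Or.inl ((Nat.prime_dvd_prime_iff_eq hr Nat.prime_two).1 (hr.dvd_of_dvd_pow h1))
    · have h2 := (Nat.prime_dvd_prime_iff_eq hr Nat.prime_three).1 (hr.dvd_of_dvd_pow h1)
      exact absurd (h2 ▸ hrd) (three h)
    · exact Or.inr ((Nat.prime_dvd_prime_iff_eq hr Nat.prime_five).1 h1)
  have hex : 5 ∣ charDegree (χ : PSU 4 F4 2 → ℂ) → x ^ 5 = 1 := fun hrd =>
    pow_eq_one_of_dvd (n := 2 ^ 6 * 3 ^ 4) (by norm_num) (by rw [hfac]; norm_num) (by norm_num) h hrd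
  have hkill : ∀ r : ℕ, r.Prime → r ∣ charDegree (χ : PSU 4 F4 2 → ℂ) → ∃ k : ℕ, x ^ (r ^ k) = 1 := by
    intro r hr hrd
    rcases hmem r hr hrd with rfl | rfl
    · obtain ⟨y, hy, hxy⟩ := even h hrd
      exact ⟨2, pow_eq_one_of_isConj hxy (u4_dat.pow y hy)⟩
    · exact ⟨1, by rw [pow_one]; exact hex hrd⟩
  obtain ⟨r, hr, hrd⟩ := Nat.exists_prime_and_dvd hd1.ne'
  obtain ⟨i, hi⟩ := deg_prime_pow h hkill hr hrd
  have hxr : x ^ r = 1 := pow_eq_one_of_deg not_comm hr (hrd.trans hdvd) h hi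
  rcases hmem r hr hrd with rfl | rfl
  · obtain ⟨y, hy, hxy⟩ := even h hrd
    exact pow_ne_one u4_ne hy (pow_eq_one_of_isConj hxy.symm hxr)
  · have hi1 : i ≤ 1 := by
      by_contra hcon
      have h1 : 5 ^ 2 ∣ Nat.card (PSU 4 F4 2) := (pow_dvd_pow 5 (by omega)).trans (hi ▸ hdvd)
      rw [card_G] at h1
      exact absurd h1 (by norm_num)
    have hi0 : i ≠ 0 := by
      rintro rfl
      rw [pow_zero] at hi
      omega
    have h1 : i = 1 := by omega
    rw [h1, pow_one] at hi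
    exact five h hxr hi

universe u

/-- **`U_4(2)`** -/
theorem row_u42 {S : Type u} [Group S] [Finite S] {F : Type} [Field F] [Fintype F]
    (hF : Fintype.card F = 2 ^ 2) (e : S ≃* PSU 4 F 2) : H730.OZ.Row S := by
  obtain ⟨f⟩ := SporadicStructure.PsuMatch.psu_iso_of_card (F := F) (K := F4) (by rw [hF]; rfl) 4 2
  exact H730.OZ.Row.congr (e.trans f) (H604.OZ.row_of fun _ _ h => none h)

end Cfsg.Agent.H933.OZ.U42
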