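import Cfsg.Agent.H933.OZ.U62Data
import Cfsg.Agent.H933.OZ.Fin
import Cfsg.Agent.H730.OZ.Asm
import Cfsg.Agent.SporadicStructure.PsuMatch
import Cfsg.Agent.S0277
import Cfsg.Agent.S0283
import Cfsg.Agent.S2335

/-!
# S4842: the row `U_6(2)` (helper933)
-/

set_option autoImplicit false

namespace Cfsg.Agent.H933.OZ.U62

open Cfsg Cfsg.Agent.Characters Cfsg.Agent.CharactersDeep Cfsg.Agent.H732.VZ Orb
open Cfsg.Agent.H686.CharKit Cfsg.Agent.SporadicA.FieldFour

theorem card_GU : Nat.card (GU 6 F4 2) = 82771476480 := by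
  have h := S0277.result hF 6
  norm_num [Finset.prod_range_succ, Nat.even_iff] at h
  exact h

instance simp6 : IsSimpleGroup (PSU 6 F4 2) := Cfsg.Agent.S0283.result hF 6 (by norm_num) (by omega)

theorem not_comm : ¬ IsMulCommutative (PSU 6 F4 2) := by
  intro h
  let _ : CommGroup (PSU 6 F4 2) := { mul_comm := fun a b => h.is_comm.comm a b }
  have h1 : (Nat.card (PSU 6 F4 2)).Prime := IsSimpleGroup.prime_card
  rw [card_G] at h1
  exact absurd h1 (by norm_num)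

/-- minimal degree -/
theorem deg_ge (χ : IrrCharacter (PSU 6 F4 2)) (h : 2 ≤ charDegree (χ : PSU 6 F4 2 → ℂ)) :
    21 ≤ charDegree (χ : PSU 6 F4 2 → ℂ) := by
  have h1 : IsIrrCharacter (SU 6 F4 2) ((χ : PSU 6 F4 2 → ℂ) ∘ pr) :=
    Core.isIrr_comp pr (QuotientGroup.mk'_surjective _) χ.2
  obtain ⟨k, ρ, hρ, hk⟩ := h1
  have h2 : charDegree (χ : PSU 6 F4 2 → ℂ) = k := by
    have h3 := congrFun hk 1
    rw [Representation.char_one, Module.finrank_fin_fun, Function.comp, map_one, ← charDegree_irr χ] at h3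
    exact_mod_cast h3.symm
  rw [h2] at h ⊢
  exact S2335.result 6 2 (by norm_num) (by decide) hF (by decide) k ρ hρ h

theorem four_le_c {χ : IrrCharacter (PSU 6 F4 2)} {x : PSU 6 F4 2} (h : One χ x) :
    4 ≤ Nat.card (Subgroup.centralizer ({x} : Set (PSU 6 F4 2))) :=
  four_le (by rw [card_G]; norm_num) (by rw [card_G]; norm_num) h

/-- even degree -/
theorem even {χ : IrrCharacter (PSU 6 F4 2)} {x : PSU 6 F4 2} (h : One χ x)
    (hd : 2 ∣ charDegree (χ : PSU 6 F4 2 → ℂ)) : ∃ y ∈ orb u8, IsConj x y := by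
  by_contra hcon
  push Not at hcon
  have h1 := u8_dat.cost h hcon (k := 3) fun y hy =>
    le_trans (by norm_num) (u8_dat.sq_le u8_rat Nat.prime_two h hcon hd hy)
  rw [card_GU, card_G] at h1
  have h2 := four_le_c h
  omega

/-- degree divisible by three -/
theorem three {χ : IrrCharacter (PSU 6 F4 2)} {x : PSU 6 F4 2} (h : One χ x)
    (hd : 3 ∣ charDegree (χ : PSU 6 F4 2 → ℂ)) : ∃ y ∈ orb t9, IsConj x y := by
  by_contra hcon
  push Not at hcon
  have h1 := t9_dat.cost h hcon (k := 8) fun y hy =>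
    le_trans (by norm_num) (t9_dat.sq_le t9_rat Nat.prime_three h hcon hd hy)
  rw [card_GU, card_G] at h1
  have h2 := four_le_c h
  omega

theorem none {χ : IrrCharacter (PSU 6 F4 2)} {x : PSU 6 F4 2} (h : One χ x) : False := by
  have hd1 := H604.OZ.one_lt_deg h
  have hdvd := H604.OZ.deg_dvd χ
  have hfac : Nat.card (PSU 6 F4 2) = 2 ^ 15 * 3 ^ 6 * 5 * 7 * 11 := by rw [card_G]; norm_num
  have hmem : ∀ r : ℕ, r.Prime → r ∣ charDegree (χ : PSU 6 F4 2 → ℂ) →
      r = 2 ∨ r = 3 ∨ r = 5 ∨ r = 7 ∨ r = 11 := by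
    intro r hr hrd
    have h1 := hrd.trans hdvd
    rw [hfac] at h1
    simp only [hr.dvd_mul] at h1
    rcases h1 with (((h1 | h1) | h1) | h1) | h1
    · exact Or.inl ((Nat.prime_dvd_prime_iff_eq hr Nat.prime_two).1 (hr.dvd_of_dvd_pow h1))
    · exact Or.inr (Or.inl ((Nat.prime_dvd_prime_iff_eq hr Nat.prime_three).1 (hr.dvd_of_dvd_pow h1)))
    · exact Or.inr (Or.inr (Or.inl ((Nat.prime_dvd_prime_iff_eq hr Nat.prime_five).1 h1)))
    · exact Or.inr (Or.inr (Or.inr (Or.inl ((Nat.prime_dvd_prime_iff_eq hr (by norm_num)).1 h1))))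
    · exact Or.inr (Or.inr (Or.inr (Or.inr ((Nat.prime_dvd_prime_iff_eq hr (by norm_num)).1 h1))))
  have hex : ∀ r : ℕ, r = 5 ∨ r = 7 ∨ r = 11 → r ∣ charDegree (χ : PSU 6 F4 2 → ℂ) → x ^ r = 1 := by
    rintro r (rfl | rfl | rfl) hrd
    · exact pow_eq_one_of_dvd (n := 2 ^ 15 * 3 ^ 6 * 7 * 11) (by norm_num) (by rw [hfac]; norm_num)
        (by norm_num) h hrd
    · exact pow_eq_one_of_dvd (n := 2 ^ 15 * 3 ^ 6 * 5 * 11) (by norm_num) (by rw [hfac]; norm_num)
        (by norm_num) h hrd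
    · exact pow_eq_one_of_dvd (n := 2 ^ 15 * 3 ^ 6 * 5 * 7) (by norm_num) (by rw [hfac]; norm_num)
        (by norm_num) h hrd
  have hkill : ∀ r : ℕ, r.Prime → r ∣ charDegree (χ : PSU 6 F4 2 → ℂ) → ∃ k : ℕ, x ^ (r ^ k) = 1 := by
    intro r hr hrd
    rcases hmem r hr hrd with rfl | rfl | h5
    · obtain ⟨y, hy, hxy⟩ := even h hrd
      exact ⟨3, pow_eq_one_of_isConj hxy (u8_dat.pow y hy)⟩
    · obtain ⟨y, hy, hxy⟩ := three h hrd
      exact ⟨2, pow_eq_one_of_isConj hxy (t9_dat.pow y hy)⟩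
    · exact ⟨1, by rw [pow_one]; exact hex r h5 hrd⟩
  obtain ⟨r, hr, hrd⟩ := Nat.exists_prime_and_dvd hd1.ne'
  obtain ⟨i, hi⟩ := deg_prime_pow h hkill hr hrd
  have hxr : x ^ r = 1 := pow_eq_one_of_deg not_comm hr (hrd.trans hdvd) h hi
  rcases hmem r hr hrd with rfl | rfl | h5
  · obtain ⟨y, hy, hxy⟩ := even h hrd
    refine pow_ne_one u8_ne hy ?_
    refine pow_eq_one_of_isConj hxy.symm ?_
    rw [show 4 = 2 * 2 from rfl, pow_mul, hxr, one_pow]
  · obtain ⟨y, hy, hxy⟩ := three h hrd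
    exact pow_ne_one t9_ne hy (pow_eq_one_of_isConj hxy.symm hxr)
  · have h21 := deg_ge χ hd1
    have hi1 : i ≤ 1 := by
      by_contra hcon
      have h1 : r ^ 2 ∣ Nat.card (PSU 6 F4 2) := (pow_dvd_pow r (by omega)).trans (hi ▸ hdvd)
      rw [card_G] at h1
      rcases h5 with rfl | rfl | rfl <;> exact absurd h1 (by norm_num)
    have h2 : charDegree (χ : PSU 6 F4 2 → ℂ) ≤ r := by
      rw [hi]
      calc r ^ i ≤ r ^ 1 := Nat.pow_le_pow_right hr.pos hi1
        _ = r := pow_one r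
    omega

universe u

/-- **`U_6(2)`** -/
theorem row_u62 {S : Type u} [Group S] [Finite S] {F : Type} [Field F] [Fintype F]
    (hF : Fintype.card F = 2 ^ 2) (e : S ≃* PSU 6 F 2) : H730.OZ.Row S := by
  obtain ⟨f⟩ := SporadicStructure.PsuMatch.psu_iso_of_card (F := F) (K := F4) (by rw [hF]; rfl) 6 2
  exact H730.OZ.Row.congr (e.trans f) (H604.OZ.row_of fun _ _ h => none h)

end Cfsg.Agent.H933.OZ.U62
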