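import Cfsg.Agent.H732.VZ.Close
import Cfsg.Agent.H732.VZ.Div
import Cfsg.Agent.S0142

/-!
# Characters with one class of zeros: costs and prime power degrees (helper933, for S4842)

* `cost` : a Galois-stable set `Y` without zeros on which `|χ|² ≥ k + 1`: `k |Y| |C(x)| ≤ |G|`.
* `exists_int_of_conj`, `exists_nat_of_conj` : integrality of `χ y` and `|χ y|²`.
* `dvd_int`, `dvd_nat` : congruences for values at elements of prime power order.
* `zero_of_coprime` : Burnside's lemma in the form `χ z = 0`.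
-/

set_option autoImplicit false

namespace Cfsg.Agent.H933.OZ

open Cfsg Cfsg.Agent.Characters Cfsg.Agent.CharactersDeep Cfsg.Agent.H732.VZ Finset
open Cfsg.Agent.H686.CharKit
open scoped ComplexConjugate

universe u

variable {G : Type u} [Group G]

/-- **Cost.** -/
theorem cost [Fintype G] [DecidableEq G] {χ : IrrCharacter G} {x : G} (h : One χ x)
    {Y : Finset G} (hY : H695.OneZero.Gal Y) (hx : ∀ y ∈ Y, ¬ IsConj x y) {k : ℕ}
    (hk : ∀ y ∈ Y, ((k : ℝ) + 1) ≤ Complex.normSq ((χ : G → ℂ) y)) :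
    k * Y.card * Nat.card (Subgroup.centralizer ({x} : Set G)) ≤ Nat.card G := by
  have h0 : ∀ g ∈ Y, (χ : G → ℂ) g ≠ 0 := fun g hg h1 => hx g hg (h.uniq g h1)
  have h1 := H695.OneZero.sum_le χ hY h0
  have h2 : (Y.card : ℝ) * ((k : ℝ) + 1) ≤ ∑ g ∈ Y, Complex.normSq ((χ : G → ℂ) g) := by
    rw [← nsmul_eq_mul, ← Finset.sum_const]
    exact Finset.sum_le_sum hk
  have h3 := h2.trans h1
  have h4 : k * Y.card ≤ (univ.filter fun g : G => (χ : G → ℂ) g = 0).card := by
    have : ((k * Y.card : ℕ) : ℝ) ≤ ((univ.filter fun g : G => (χ : G → ℂ) g = 0).card : ℝ) := by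
      push_cast
      nlinarith
    exact_mod_cast this
  calc k * Y.card * Nat.card (Subgroup.centralizer ({x} : Set G))
      ≤ (univ.filter fun g : G => (χ : G → ℂ) g = 0).card
        * Nat.card (Subgroup.centralizer ({x} : Set G)) := Nat.mul_le_mul_right _ h4
    _ = Nat.card G := card_zeros h

/-- The zero class is rational. -/
theorem conj_of_coprime [Finite G] {χ : IrrCharacter G} {x : G} (h : One χ x) {y : G}
    (hxy : IsConj x y) {m : ℕ} (hm : m.Coprime (Nat.card G)) : IsConj y (y ^ m) := by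
  have h1 := h.conj_pow hm
  obtain ⟨c, rfl⟩ := isConj_iff.1 hxy
  rw [conj_pow]
  exact (isConj_iff.2 ⟨c, rfl⟩ : IsConj x _).symm.trans
    (h1.trans (isConj_iff.2 ⟨c, rfl⟩))

theorem apply_eq_of_isConj (χ : IrrCharacter G) {y z : G} (h : IsConj y z) :
    (χ : G → ℂ) y = (χ : G → ℂ) z := by
  obtain ⟨c, rfl⟩ := isConj_iff.1 h
  exact (Core.isIrr_isClassFunction χ.2 y c).symm

theorem apply_inv [Finite G] (χ : IrrCharacter G) (y : G) :
    (χ : G → ℂ) y⁻¹ = conj ((χ : G → ℂ) y) :=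
  Core.isCharacter_apply_inv (Core.isIrr_isCharacter χ.2) y

/-- Rational values. -/
theorem exists_int_of_conj [Finite G] (χ : IrrCharacter G) {y : G}
    (h : ∀ k : ℕ, k.Coprime (Nat.card G) → IsConj y (y ^ k)) : ∃ a : ℤ, (χ : G → ℂ) y = a := by
  have hχ := Core.isIrr_isCharacter χ.2
  have hint := GaloisBasic.isIntegral_apply hχ y
  obtain ⟨q, hq⟩ := GaloisBasic.exists_rat_of_forall_ringEquiv (hint.tower_top) (fun σ => by
    obtain ⟨k, hk, hσ⟩ := GaloisBasic.exists_pow_of_ringEquiv (G := G) σ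
    rw [hσ _ hχ]
    exact (apply_eq_of_isConj χ (h k hk)).symm)
  exact GaloisBasic.exists_int_of_isIntegral hint ⟨q, hq⟩

/-- Rational squared absolute values. -/
theorem exists_nat_of_conj [Finite G] (χ : IrrCharacter G) {y : G}
    (h : ∀ k : ℕ, k.Coprime (Nat.card G) → IsConj y (y ^ k) ∨ IsConj y⁻¹ (y ^ k)) :
    ∃ a : ℕ, Complex.normSq ((χ : G → ℂ) y) = a ∧ (χ : G → ℂ) y * (χ : G → ℂ) y⁻¹ = a := by
  have hχ := Core.isIrr_isCharacter χ.2
  have hint : IsIntegral ℤ ((χ : G → ℂ) y * (χ : G → ℂ) y⁻¹) :=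
    (GaloisBasic.isIntegral_apply hχ y).mul (GaloisBasic.isIntegral_apply hχ y⁻¹)
  have hns : (χ : G → ℂ) y * (χ : G → ℂ) y⁻¹ = (Complex.normSq ((χ : G → ℂ) y) : ℂ) := by
    rw [apply_inv, Complex.mul_conj]
  obtain ⟨q, hq⟩ := GaloisBasic.exists_rat_of_forall_ringEquiv (hint.tower_top) (fun σ => by
    obtain ⟨k, hk, hσ⟩ := GaloisBasic.exists_pow_of_ringEquiv (G := G) σ
    rw [map_mul, hσ _ hχ, hσ _ hχ]
    rcases h k hk with h1 | h1
    · have h2 : IsConj y⁻¹ (y⁻¹ ^ k) := by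
        obtain ⟨c, hc⟩ := isConj_iff.1 h1
        exact isConj_iff.2 ⟨c, by rw [inv_pow, ← hc]; group⟩
      rw [← apply_eq_of_isConj χ h1, ← apply_eq_of_isConj χ h2]
    · have h2 : IsConj y (y⁻¹ ^ k) := by
        obtain ⟨c, hc⟩ := isConj_iff.1 h1
        exact isConj_iff.2 ⟨c, by rw [inv_pow, ← hc]; group⟩
      rw [← apply_eq_of_isConj χ h1, ← apply_eq_of_isConj χ h2, mul_comm])
  obtain ⟨a, ha⟩ := GaloisBasic.exists_int_of_isIntegral hint ⟨q, hq⟩
  rw [hns] at ha
  have h3 : Complex.normSq ((χ : G → ℂ) y) = (a : ℝ) := by exact_mod_cast ha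
  have h4 : 0 ≤ a := by
    have := Complex.normSq_nonneg ((χ : G → ℂ) y)
    rw [h3] at this
    exact_mod_cast this
  obtain ⟨n, rfl⟩ := Int.eq_ofNat_of_zero_le h4
  refine ⟨n, by exact_mod_cast h3, ?_⟩
  rw [hns, h3]
  push_cast
  rfl

/-- congruence of the values at `g` and at a power `s` with the same `r ^ k`-th power -/
theorem av_sub_mem [Finite G] {r : ℕ} (hr : r.Prime) {M : Ideal AlgInt} (hM : M.IsPrime)
    (hrM : (r : AlgInt) ∈ M) (χ : IrrCharacter G) {g s : G} {j k : ℕ} (hs : g ^ j = s)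
    (h : s ^ (r ^ k) = g ^ (r ^ k)) : av χ g - av χ s ∈ M := by
  obtain ⟨m, hm, hmv⟩ := BrauerLocal.congr_of_mem_achar hr hM hrM
    (AChar.mem_achar_of_isCharacter (Core.isIrr_isCharacter χ.2)) g (j := j) (k := k)
    (by rw [hs]; exact h)
  rw [hs] at hmv
  have : av χ g - av χ s = m := by
    apply Subtype.ext
    rw [hmv]
    rfl
  rw [this]
  exact hm

/-- `χ g ≡ χ s` modulo `r` for integral values, `s` the `r'`-part of `g`. -/
theorem dvd_sub_int [Finite G] {r : ℕ} (hr : r.Prime) (χ : IrrCharacter G) {g s : G} {j k : ℕ}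
    (hs : g ^ j = s) (h : s ^ (r ^ k) = g ^ (r ^ k)) {a b : ℤ} (ha : (χ : G → ℂ) g = a)
    (hb : (χ : G → ℂ) s = b) : (r : ℤ) ∣ a - b := by
  obtain ⟨M, hM', hrM⟩ := BrauerLocal.exists_maximal r hr
  have hM : M.IsPrime := hM'.isPrime
  have h1 := av_sub_mem hr hM hrM χ hs h
  rw [← int_mem_iff hr hM hrM]
  have h2 : av χ g = ((a : ℤ) : AlgInt) := by
    apply Subtype.ext
    rw [av_coe, ha]
    push_cast
    rfl
  have h3 : av χ s = ((b : ℤ) : AlgInt) := by
    apply Subtype.ext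
    rw [av_coe, hb]
    push_cast
    rfl
  rw [h2, h3] at h1
  push_cast
  exact h1

/-- Integral values at elements of `r`-power order are congruent to the degree. -/
theorem dvd_sub_deg [Finite G] {r : ℕ} (hr : r.Prime) (χ : IrrCharacter G) {g : G} {k : ℕ}
    (hg : g ^ (r ^ k) = 1) {a : ℤ} (ha : (χ : G → ℂ) g = a) :
    (r : ℤ) ∣ a - (charDegree (χ : G → ℂ) : ℤ) := by
  refine dvd_sub_int hr χ (g := g) (s := 1) (j := 0) (k := k) (pow_zero g) ?_ ha ?_
  · rw [one_pow, hg]
  · rw [← charDegree_irr χ]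
    push_cast
    rfl

/-- The integral squared absolute values at elements of `r`-power order are congruent to the square of
the degree. -/
theorem dvd_sub_sq [Finite G] {r : ℕ} (hr : r.Prime) (χ : IrrCharacter G) {g : G} {k : ℕ}
    (hg : g ^ (r ^ k) = 1) {a : ℕ} (ha : (χ : G → ℂ) g * (χ : G → ℂ) g⁻¹ = a) :
    (r : ℤ) ∣ (a : ℤ) - (charDegree (χ : G → ℂ) : ℤ) ^ 2 := by
  obtain ⟨M, hM', hrM⟩ := BrauerLocal.exists_maximal r hr
  have hM : M.IsPrime := hM'.isPrime
  have h1 : av χ g - av χ 1 ∈ M := av_sub_mem hr hM hrM χ (j := 0) (k := k) (pow_zero g)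
    (by rw [one_pow, hg])
  have h2 : av χ g⁻¹ - av χ 1 ∈ M := av_sub_mem hr hM hrM χ (j := 0) (k := k) (pow_zero _)
    (by rw [one_pow, inv_pow, hg, inv_one])
  have h3 : av χ g * av χ g⁻¹ - av χ 1 * av χ 1 ∈ M := by
    have : av χ g * av χ g⁻¹ - av χ 1 * av χ 1
        = av χ g * (av χ g⁻¹ - av χ 1) + av χ 1 * (av χ g - av χ 1) := by ring
    rw [this]
    exact M.add_mem (M.mul_mem_left _ h2) (M.mul_mem_left _ h1)
  have h4 : av χ g * av χ g⁻¹ = ((a : ℤ) : AlgInt) := by
    apply Subtype.ext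
    push_cast
    exact ha
  have h5 : av χ 1 = ((charDegree (χ : G → ℂ) : ℤ) : AlgInt) := by
    apply Subtype.ext
    push_cast
    exact (charDegree_irr χ).symm
  rw [← int_mem_iff hr hM hrM]
  rw [h4, h5] at h3
  push_cast at h3 ⊢
  rw [sq]
  exact h3

/-- **Burnside.** -/
theorem zero_of_coprime [Finite G] [IsSimpleGroup G] (hna : ¬ IsMulCommutative G)
    (χ : IrrCharacter G) {x : G} (h : One χ x) {z : G} (hz : z ≠ 1)
    (hcop : (Subgroup.centralizer ({z} : Set G)).index.Coprime (charDegree (χ : G → ℂ))) :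
    IsConj x z := by
  obtain ⟨n, ρ, hρ, hρχ⟩ := χ.2
  have hdeg : charDegree (χ : G → ℂ) = Module.finrank ℂ (Fin n → ℂ) := by
    have h1 : (charDegree (χ : G → ℂ) : ℂ) = (Module.finrank ℂ (Fin n → ℂ) : ℂ) := by
      rw [charDegree_irr χ, ← hρχ, Representation.char_one]
    exact_mod_cast h1
  have : ρ.IsIrreducible := hρ
  rcases S0142.result ρ z (by rw [← hdeg]; exact hcop.symm) with h1 | h1
  · exact h.uniq z (by rw [← hρχ]; exact h1)
  · exfalso
    refine norm_ne hna χ h.zero hz ?_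
    rw [hdeg, ← hρχ]
    exact h1

/-- The centralizer of an element of prime order is not of that order if `r ^ 2` divides the group
order. -/
theorem card_centralizer_ne [Finite G] {r : ℕ} (hr : r.Prime) (hG : r ^ 2 ∣ Nat.card G) (x : G) :
    Nat.card (Subgroup.centralizer ({x} : Set G)) ≠ r := by
  intro hc
  have : Fact r.Prime := ⟨hr⟩
  have hx1 : x ≠ 1 := by
    rintro rfl
    have h1 : Subgroup.centralizer ({1} : Set G) = ⊤ := by
      rw [Subgroup.centralizer_eq_top_iff_subset]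
      intro y hy
      rw [Set.mem_singleton_iff.1 hy]
      exact Subgroup.one_mem _
    rw [h1, Subgroup.card_top] at hc
    rw [hc] at hG
    have h2 := Nat.le_of_dvd hr.pos hG
    have h3 := hr.one_lt
    nlinarith
  have hxC : x ∈ Subgroup.centralizer ({x} : Set G) := Subgroup.mem_centralizer_singleton_iff.2 rfl
  have hox : orderOf x = r := by
    have h1 : orderOf (⟨x, hxC⟩ : Subgroup.centralizer ({x} : Set G)) ∣ r := hc ▸ orderOf_dvd_natCard _
    rw [Subgroup.orderOf_mk] at h1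
    rcases (Nat.dvd_prime hr).1 h1 with h | h
    · exact absurd (orderOf_eq_one_iff.1 h) hx1
    · exact h
  have hCz : Subgroup.zpowers x = Subgroup.centralizer ({x} : Set G) := by
    refine Subgroup.eq_of_le_of_card_ge ?_ ?_
    · rw [Subgroup.zpowers_le]; exact hxC
    · rw [hc, Nat.card_zpowers, hox]
  obtain ⟨P, hP⟩ := (IsPGroup.of_card (p := r) (G := Subgroup.zpowers x) (n := 1)
    (by rw [Nat.card_zpowers, hox, pow_one])).exists_le_sylow
  have hPr : r ^ 2 ∣ Nat.card P := by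
    rw [P.card_eq_multiplicity]
    exact pow_dvd_pow _ ((hr.pow_dvd_iff_le_factorization Nat.card_pos.ne').1 hG)
  have : Nontrivial P := by
    rw [← Finite.one_lt_card_iff_nontrivial]
    exact lt_of_lt_of_le (Nat.one_lt_pow (by norm_num) hr.one_lt) (Nat.le_of_dvd Nat.card_pos hPr)
  have hcen : Nontrivial (Subgroup.center P) := P.isPGroup'.center_nontrivial
  obtain ⟨⟨z, hz⟩, hz1⟩ := exists_ne (1 : Subgroup.center P)
  have hz1' : (z : G) ≠ 1 := fun h => hz1 (Subtype.ext (Subtype.ext h))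
  have hxP : x ∈ (P : Subgroup G) := hP (Subgroup.mem_zpowers x)
  have hzc : ∀ y ∈ (P : Subgroup G), y * (z : G) = (z : G) * y := fun y hy =>
    congrArg Subtype.val (Subgroup.mem_center_iff.1 hz ⟨y, hy⟩)
  have hzx : (z : G) ∈ Subgroup.zpowers x := by
    rw [hCz, Subgroup.mem_centralizer_singleton_iff]
    exact (hzc x hxP).symm
  have hzz : Subgroup.zpowers (z : G) = Subgroup.zpowers x := by
    refine Subgroup.eq_of_le_of_card_ge (by rw [Subgroup.zpowers_le]; exact hzx) ?_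
    have h1 : Nat.card (Subgroup.zpowers (z : G)) ∣ r := by
      have := Subgroup.card_dvd_of_le (Subgroup.zpowers_le.2 hzx)
      rwa [Nat.card_zpowers x, hox] at this
    rcases (Nat.dvd_prime hr).1 h1 with h | h
    · rw [Nat.card_zpowers] at h
      exact absurd (orderOf_eq_one_iff.1 h) hz1'
    · rw [h, Nat.card_zpowers, hox]
  have hPC : (P : Subgroup G) ≤ Subgroup.centralizer ({x} : Set G) := by
    intro y hy
    rw [Subgroup.mem_centralizer_singleton_iff]
    have hxz : x ∈ Subgroup.zpowers (z : G) := by rw [hzz]; exact Subgroup.mem_zpowers x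
    obtain ⟨k, hk⟩ := Subgroup.mem_zpowers_iff.1 hxz
    have h1 : Commute y (z : G) := hzc y hy
    rw [← hk]
    exact (h1.zpow_right k)
  have h1 := (hPr.trans (Subgroup.card_dvd_of_le hPC))
  rw [hc] at h1
  have h2 := Nat.le_of_dvd hr.pos h1
  have h3 := hr.one_lt
  nlinarith

end Cfsg.Agent.H933.OZ
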