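import Cfsg.Agent.H933.OZ.Cyc
import Cfsg.Agent.SporadicA.FieldFour
import Cfsg.Agent.SporadicStructure.FieldNine

/-!
# Raw operations for the fields with four and nine elements (helper933, for S4842)
-/

set_option autoImplicit false

namespace Cfsg.Agent.H933.OZ.Cyc

open Cfsg Matrix Finset

/-! ### four elements -/

section four

open Cfsg.Agent.SporadicA.FieldFour

/-- the Frobenius automorphism -/
def cj4 : F4 → F4
  | .z => .z
  | .o => .o
  | .w => .v
  | .v => .w

def eq4 : F4 → F4 → Bool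
  | .z, .z => true
  | .o, .o => true
  | .w, .w => true
  | .v, .v => true
  | _, _ => false

def seq4 : F4 → (F4 → ℕ) → ℕ
  | .z, k => k .z
  | .o, k => k .o
  | .w, k => k .w
  | .v, k => k .v

def O4 : Ops F4 := ⟨F4.add, F4.mul, cj4, eq4, .z, seq4⟩

theorem cj4_eq : ∀ x : F4, cj4 x = x ^ 2 := by decide

theorem law4 : Law O4 (F := F4) 2 id where
  add _ _ := rfl
  mul _ _ := rfl
  cj := cj4_eq
  eq := by decide
  zero := rfl
  seq x k := by cases x <;> rfl

def els4 : List F4 := [.z, .o, .w, .v]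

theorem els4_spec (f : F4 → ℕ) : ∑ a : F4, f (id a) ≤ els4.foldr (fun a s => f a + s) 0 := le_of_eq rfl

end four

/-! ### nine elements -/

section nine

open Cfsg.Agent.SporadicStructure.FieldNine

/-- the codes of the elements of the field with nine elements -/
inductive N9 : Type
  | a0 | a1 | a2 | a3 | a4 | a5 | a6 | a7 | a8
  deriving DecidableEq

namespace N9

def enc (x : K9) : N9 :=
  match K9.code x with
  | 0 => a0
  | 1 => a1
  | 2 => a2
  | 3 => a3
  | 4 => a4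
  | 5 => a5
  | 6 => a6
  | 7 => a7
  | _ => a8

/-- `x + 1` -/
def s1 : N9 → N9
  | a0 => a1 | a1 => a2 | a2 => a0 | a3 => a4 | a4 => a5 | a5 => a3 | a6 => a7 | a7 => a8 | a8 => a6

/-- `x + i` -/
def s3 : N9 → N9
  | a0 => a3 | a1 => a4 | a2 => a5 | a3 => a6 | a4 => a7 | a5 => a8 | a6 => a0 | a7 => a1 | a8 => a2

def add : N9 → N9 → N9
  | a0, y => y
  | a1, y => s1 y
  | a2, y => s1 (s1 y)
  | a3, y => s3 y
  | a4, y => s1 (s3 y)
  | a5, y => s1 (s1 (s3 y))
  | a6, y => s3 (s3 y)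
  | a7, y => s1 (s3 (s3 y))
  | a8, y => s1 (s1 (s3 (s3 y)))

def neg : N9 → N9
  | a0 => a0 | a1 => a2 | a2 => a1 | a3 => a6 | a4 => a8 | a5 => a7 | a6 => a3 | a7 => a5 | a8 => a4

/-- `i x` -/
def mi : N9 → N9
  | a0 => a0 | a1 => a3 | a2 => a6 | a3 => a2 | a4 => a5 | a5 => a8 | a6 => a1 | a7 => a4 | a8 => a7

/-- `(1 + i) x` -/
def m4 : N9 → N9
  | a0 => a0 | a1 => a4 | a2 => a8 | a3 => a5 | a4 => a6 | a5 => a1 | a6 => a7 | a7 => a2 | a8 => a3

def mul : N9 → N9 → N9
  | a0, _ => a0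
  | a1, y => y
  | a2, y => neg y
  | a3, y => mi y
  | a4, y => m4 y
  | a5, y => mi (m4 y)
  | a6, y => neg (mi y)
  | a7, y => neg (mi (m4 y))
  | a8, y => neg (m4 y)

def cj : N9 → N9
  | a0 => a0 | a1 => a1 | a2 => a2 | a3 => a6 | a4 => a7 | a5 => a8 | a6 => a3 | a7 => a4 | a8 => a5

def seq : N9 → (N9 → ℕ) → ℕ
  | a0, k => k a0
  | a1, k => k a1
  | a2, k => k a2
  | a3, k => k a3
  | a4, k => k a4
  | a5, k => k a5
  | a6, k => k a6
  | a7, k => k a7
  | a8, k => k a8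

def eq : N9 → N9 → Bool
  | a0, a0 => true
  | a1, a1 => true
  | a2, a2 => true
  | a3, a3 => true
  | a4, a4 => true
  | a5, a5 => true
  | a6, a6 => true
  | a7, a7 => true
  | a8, a8 => true
  | _, _ => false

end N9

def O9 : Ops N9 := ⟨N9.add, N9.mul, N9.cj, N9.eq, .a0, N9.seq⟩

/-- the Frobenius automorphism -/
def cj9 (x : K9) : K9 := x * x * x

theorem cj9_eq : ∀ x : K9, cj9 x = x ^ 3 := by decide +kernel

set_option maxRecDepth 100000 in
theorem law9 : Law O9 (F := K9) 3 N9.enc where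
  add := by decide +kernel
  mul := by decide +kernel
  cj := by decide +kernel
  eq := by decide +kernel
  zero := by decide +kernel
  seq x k := by cases x <;> rfl

def els9 : List N9 := [.a0, .a1, .a2, .a3, .a4, .a5, .a6, .a7, .a8]

theorem els9_spec (f : N9 → ℕ) : ∑ a : K9, f (N9.enc a) ≤ els9.foldr (fun a s => f a + s) 0 := by
  have h1 : ∑ a : K9, f (N9.enc a) = ∑ a : Fin 9, f (N9.enc (a : K9)) := rfl
  rw [h1]
  simp only [Fin.sum_univ_succ, els9, List.foldr]
  exact le_of_eq rfl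

end nine

end Cfsg.Agent.H933.OZ.Cyc
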