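import Cfsg.Agent.H933.OZ.Cyc
import Cfsg.Agent.H933.OZ.Cost

/-!
# Orbits of `GU` on `PSU` (helper933, for S4842)

* `orb t` : the images in `PSU` of the conjugates of `t` under `GU`.
* `card_GU_le` : `|GU| ≤ m |orb t|`.
* `gal_orb`, `isConj_pow`, `isConj_inv_pow` : powers.
-/

set_option autoImplicit false

namespace Cfsg.Agent.H933.OZ.Orb

open Cfsg Matrix Finset Cyc Cfsg.Agent.LieClassical

variable {F : Type} [Field F] {q n : ℕ}

/-- matrix of an element of `SU` -/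
abbrev sm (t : SU n F q) : Matrix (Fin n) (Fin n) F := t.1.1

theorem gm_mul_inv (g : GU n F q) : gm g * gm g⁻¹ = 1 := by
  have h : g * g⁻¹ = 1 := mul_inv_cancel g
  exact congrArg gm h

theorem gm_inv_mul (g : GU n F q) : gm g⁻¹ * gm g = 1 := by
  have h : g⁻¹ * g = 1 := inv_mul_cancel g
  exact congrArg gm h

theorem sm_inj {s t : SU n F q} (h : sm s = sm t) : s = t := Subtype.ext (Subtype.ext h)

/-- conjugation of `SU` by elements of `GU` -/
def cg (g : GU n F q) : SU n F q →* SU n F q where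
  toFun t := ⟨⟨gm g * sm t * gm g⁻¹, by
      have h1 : (sm t).det = 1 := t.1.2
      rw [Matrix.det_mul, Matrix.det_mul, h1, mul_one, ← Matrix.det_mul, gm_mul_inv, Matrix.det_one]⟩, by
    refine (SUBasic.mem_SU_iff _).2 fun u v => ?_
    change hermForm n F q ((gm g * sm t * gm g⁻¹) *ᵥ u) ((gm g * sm t * gm g⁻¹) *ᵥ v) = _
    rw [← Matrix.mulVec_mulVec, ← Matrix.mulVec_mulVec, ← Matrix.mulVec_mulVec, ← Matrix.mulVec_mulVec]
    exact (g.2 _ _).trans ((t.2 _ _).trans (g⁻¹.2 _ _))⟩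
  map_one' := by
    apply sm_inj
    change gm g * 1 * gm g⁻¹ = 1
    rw [mul_one, gm_mul_inv]
  map_mul' s t := by
    apply sm_inj
    change gm g * (sm s * sm t) * gm g⁻¹ = (gm g * sm s * gm g⁻¹) * (gm g * sm t * gm g⁻¹)
    calc gm g * (sm s * sm t) * gm g⁻¹ = gm g * sm s * (1 * sm t) * gm g⁻¹ := by
          rw [one_mul]; simp only [mul_assoc]
      _ = _ := by rw [← gm_inv_mul g]; simp only [mul_assoc]

theorem sm_cg (g : GU n F q) (t : SU n F q) : sm (cg g t) = gm g * sm t * gm g⁻¹ := rfl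

theorem cg_mul (g h : GU n F q) (t : SU n F q) : cg (g * h) t = cg g (cg h t) := by
  apply sm_inj
  rw [sm_cg, sm_cg, sm_cg]
  have h1 : gm (g * h) = gm g * gm h := rfl
  have h2 : gm (g * h)⁻¹ = gm h⁻¹ * gm g⁻¹ := by rw [_root_.mul_inv_rev]; rfl
  rw [h1, h2]
  simp only [mul_assoc]

theorem cg_one (t : SU n F q) : cg 1 t = t := by
  apply sm_inj
  rw [sm_cg, inv_one]
  change 1 * sm t * 1 = _
  rw [one_mul, mul_one]

theorem cg_center (g : GU n F q) {z : SU n F q} (hz : z ∈ Subgroup.center (SU n F q)) :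
    cg g z ∈ Subgroup.center (SU n F q) := by
  rw [Subgroup.mem_center_iff]
  intro s
  have h1 : s = cg g (cg g⁻¹ s) := by rw [← cg_mul, mul_inv_cancel, cg_one]
  rw [h1, ← map_mul, ← map_mul, Subgroup.mem_center_iff.1 hz]

/-- the projection -/
abbrev pr : SU n F q →* PSU n F q := QuotientGroup.mk' (Subgroup.center (SU n F q))

theorem pr_eq_iff {s t : SU n F q} : pr s = pr t ↔ s⁻¹ * t ∈ Subgroup.center (SU n F q) :=
  QuotientGroup.eq

theorem pr_cg (g : GU n F q) {s t : SU n F q} (h : pr s = pr t) : pr (cg g s) = pr (cg g t) := by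
  rw [pr_eq_iff] at h ⊢
  rw [← map_inv, ← map_mul]
  exact cg_center g h

/-- an element of `SU` as an element of `GU` -/
def ofSU (s : SU n F q) : GU n F q :=
  ⟨⟨sm s, sm s⁻¹, congrArg sm (mul_inv_cancel s), congrArg sm (inv_mul_cancel s)⟩, s.2⟩

theorem cg_ofSU (s t : SU n F q) : cg (ofSU s) t = s * t * s⁻¹ := sm_inj rfl

/-- conjugate to the `k`-th power modulo scalars -/
def Pw (t : SU n F q) (k : ℕ) : Prop := ∃ s : SU n F q, pr (s * t * s⁻¹) = pr t ^ k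

/-- conjugate under `GU` to the `k`-th power modulo scalars -/
def GPw (t : SU n F q) (k : ℕ) : Prop := ∃ g : GU n F q, pr (cg g t) = pr t ^ k

theorem Pw.gpw {t : SU n F q} {k : ℕ} (h : Pw t k) : GPw t k := by
  obtain ⟨s, hs⟩ := h
  exact ⟨ofSU s, by rw [cg_ofSU, hs]⟩

theorem Pw.one (t : SU n F q) : Pw t 1 := ⟨1, by simp⟩

theorem Pw.mul {t : SU n F q} {a b : ℕ} (ha : Pw t a) (hb : Pw t b) : Pw t (a * b) := by
  obtain ⟨s, hs⟩ := ha
  obtain ⟨r, hr⟩ := hb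
  refine ⟨s * r, ?_⟩
  have h1 : s * r * t * (s * r)⁻¹ = s * (r * t * r⁻¹) * s⁻¹ := by group
  rw [h1, map_mul, map_mul, hr, pow_mul, ← hs, map_mul, map_mul, map_inv, conj_pow]

theorem GPw.mul {t : SU n F q} {a b : ℕ} (ha : GPw t a) (hb : GPw t b) : GPw t (a * b) := by
  obtain ⟨s, hs⟩ := ha
  obtain ⟨r, hr⟩ := hb
  refine ⟨s * r, ?_⟩
  rw [← map_pow] at hr
  rw [cg_mul, pr_cg s hr, map_pow, map_pow, hs, pow_mul]

theorem Pw.congr {t : SU n F q} {a b : ℕ} (h : Pw t a) (hab : pr t ^ a = pr t ^ b) : Pw t b := by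
  obtain ⟨s, hs⟩ := h
  exact ⟨s, hs.trans hab⟩

theorem GPw.congr {t : SU n F q} {a b : ℕ} (h : GPw t a) (hab : pr t ^ a = pr t ^ b) : GPw t b := by
  obtain ⟨s, hs⟩ := h
  exact ⟨s, hs.trans hab⟩

theorem pow_mod {t : SU n F q} {N : ℕ} (hN : pr t ^ N = 1) (k : ℕ) : pr t ^ (k % N) = pr t ^ k :=
  (pow_eq_pow_mod k hN).symm

section orb

variable [Fintype F] [DecidableEq F]

open Classical in
/-- the orbit -/
noncomputable def orb (t : SU n F q) : Finset (PSU n F q) :=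
  Set.Finite.toFinset (Set.finite_range fun g : GU n F q => pr (cg g t))

omit [DecidableEq F] in
theorem mem_orb {t : SU n F q} {y : PSU n F q} : y ∈ orb t ↔ ∃ g : GU n F q, pr (cg g t) = y := by
  rw [orb, Set.Finite.mem_toFinset, Set.mem_range]

omit [DecidableEq F] in
theorem self_mem (t : SU n F q) : pr t ∈ orb t := mem_orb.2 ⟨1, by rw [cg_one]⟩

omit [DecidableEq F] in
theorem card_GU_le (hF : Fintype.card F = q ^ 2) (hn : 3 ≤ n) {m : ℕ} {cs : List F} (t : SU n F q)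
    (hcs : ∀ c : F, c ^ n = 1 → c ^ (q + 1) = 1 → c ∈ cs)
    (hP : ∀ P : Finset (GU n F q), (∀ g ∈ P, ∃ c ∈ cs, gm g * sm t = c • (sm t * gm g)) → P.card ≤ m) :
    Nat.card (GU n F q) ≤ m * (orb t).card := by
  classical
  have := Fintype.ofFinite (GU n F q)
  have := Fintype.ofFinite (PSU n F q)
  have h1 : orb t = (univ : Finset (GU n F q)).image fun g => pr (cg g t) := by
    ext y
    rw [mem_orb, mem_image]
    simp
  rw [Nat.card_eq_fintype_card, ← Finset.card_univ, h1]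
  refine Finset.card_le_mul_card_image _ m ?_
  intro a ha
  obtain ⟨d, -, rfl⟩ := mem_image.1 ha
  have h2 : (univ.filter fun g : GU n F q => pr (cg g t) = pr (cg d t)).card
      = ((univ.filter fun g : GU n F q => pr (cg g t) = pr (cg d t)).image fun g => d⁻¹ * g).card :=
    (Finset.card_image_of_injective _ (mul_right_injective d⁻¹)).symm
  rw [h2]
  refine hP _ ?_
  intro g' hg'
  obtain ⟨g, hg, rfl⟩ := mem_image.1 hg'
  rw [mem_filter] at hg
  have h3 : pr (cg (d⁻¹ * g) t) = pr t := by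
    rw [cg_mul, pr_cg d⁻¹ hg.2, ← cg_mul, inv_mul_cancel, cg_one]
  rw [eq_comm, pr_eq_iff] at h3
  obtain ⟨c, hc1, hc2, hc⟩ := (SUBasic.mem_center_SU_iff hF hn _).1 h3
  refine ⟨c, hcs c hc1 hc2, ?_⟩
  have h4 : cg (d⁻¹ * g) t = t * SUBasic.suScalar q c hc1 hc2 := by rw [← hc, mul_inv_cancel_left]
  have h5 := congrArg (fun s : SU n F q => sm s * gm (d⁻¹ * g)) h4
  change gm (d⁻¹ * g) * sm t * gm (d⁻¹ * g)⁻¹ * gm (d⁻¹ * g) = _ at h5
  rw [mul_assoc, gm_inv_mul, mul_one] at h5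
  rw [h5]
  have h6 : sm (t * SUBasic.suScalar q c hc1 hc2) = sm t * Matrix.diagonal fun _ => c := rfl
  rw [h6, ← Matrix.smul_one_eq_diagonal, Matrix.mul_smul, mul_one, Matrix.smul_mul]

omit [DecidableEq F] in
theorem gal_orb {t : SU n F q}
    (h : ∀ k : ℕ, k.Coprime (Nat.card (PSU n F q)) → GPw t k) : H695.OneZero.Gal (orb t) := by
  intro y hy k hk
  obtain ⟨g, rfl⟩ := mem_orb.1 hy
  obtain ⟨s, hs⟩ := h k hk
  rw [← map_pow] at hs
  refine mem_orb.2 ⟨g * s, ?_⟩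
  rw [cg_mul, pr_cg g hs, map_pow, map_pow]

omit [DecidableEq F] in
theorem isConj_pow {t : SU n F q} {k : ℕ} (h : Pw t k) {y : PSU n F q} (hy : y ∈ orb t) :
    IsConj y (y ^ k) := by
  obtain ⟨g, rfl⟩ := mem_orb.1 hy
  obtain ⟨s, hs⟩ := h
  rw [← map_pow] at hs
  have h1 := pr_cg g hs
  rw [map_mul, map_mul, map_mul, map_mul, map_inv, map_inv, map_pow, map_pow] at h1
  exact isConj_iff.2 ⟨pr (cg g s), h1⟩

omit [DecidableEq F] in
theorem pow_eq_one {t : SU n F q} {N : ℕ} (hN : pr t ^ N = 1) {y : PSU n F q} (hy : y ∈ orb t) :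
    y ^ N = 1 := by
  obtain ⟨g, rfl⟩ := mem_orb.1 hy
  have h1 : pr (t ^ N) = pr 1 := by rw [map_pow, hN, map_one]
  have h2 := pr_cg g h1
  rw [map_pow, map_pow, map_one, map_one] at h2
  exact h2

omit [DecidableEq F] in
theorem isConj_inv_pow {t : SU n F q} {j k : ℕ} (h : Pw t j) (hjk : pr t ^ (j + k) = 1) {y : PSU n F q}
    (hy : y ∈ orb t) : IsConj y⁻¹ (y ^ k) := by
  have h1 := isConj_pow h hy
  have h2 : y ^ k = (y ^ j)⁻¹ := by
    rw [eq_inv_iff_mul_eq_one, ← pow_add, add_comm]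
    exact pow_eq_one hjk hy
  obtain ⟨c, hc⟩ := isConj_iff.1 h1
  rw [h2, ← hc]
  exact isConj_iff.2 ⟨c, by group⟩

omit [DecidableEq F] in
theorem isConj_of_mem {t : SU n F q} {y : PSU n F q} (hy : y ∈ orb t) {g : PSU n F q}
    (hg : ∀ u ∈ orb t, IsConj g u → False) : ¬ IsConj g y := hg y hy

end orb

/-- an element of `SU` from a matrix -/
def mkSU {cj : F → F} (hcj : ∀ x, cj x = x ^ q) (A : Matrix (Fin n) (Fin n) F)
    (h : Aᵀ * A.map cj = 1) (hd : A.det = 1) [Fintype F] (hF : Fintype.card F = q ^ 2) : SU n F q :=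
  ⟨⟨A, hd⟩, (GUOrder.mul_map_eq_one_iff hF A).2 (by
    rw [← h]
    congr 1
    ext i j
    exact (hcj _).symm)⟩

/-- an element of `GU` from a matrix -/
noncomputable def mkGU {cj : F → F} (hcj : ∀ x, cj x = x ^ q) (A : Matrix (Fin n) (Fin n) F)
    (h : Aᵀ * A.map cj = 1) [Fintype F] (hF : Fintype.card F = q ^ 2) : GU n F q :=
  GUOrder.mkGU hF A ((GUOrder.mul_map_eq_one_iff hF A).2 (by
    rw [← h]
    congr 1
    ext i j
    exact (hcj _).symm))

theorem pr_eq_of_smul {s t : SU n F q} {c : F} (hc1 : c ^ n = 1) (hc2 : c ^ (q + 1) = 1)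
    (h : sm s = c • sm t) : pr s = pr t := by
  rw [eq_comm, pr_eq_iff]
  have h1 : t⁻¹ * s = SUBasic.suScalar q c hc1 hc2 := by
    rw [inv_mul_eq_iff_eq_mul]
    apply sm_inj
    rw [h]
    change _ = sm t * Matrix.diagonal fun _ => c
    rw [← Matrix.smul_one_eq_diagonal, Matrix.mul_smul, mul_one]
  rw [h1]
  exact SUBasic.suScalar_mem_center q c hc1 hc2

theorem smul_of_pr_eq [Fintype F] (hF : Fintype.card F = q ^ 2) (hn : 3 ≤ n) {s : SU n F q} (h : pr s = pr 1) :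
    ∃ c : F, sm s = c • (1 : Matrix (Fin n) (Fin n) F) := by
  rw [eq_comm, pr_eq_iff, inv_one, one_mul] at h
  obtain ⟨c, hc1, hc2, hc⟩ := (SUBasic.mem_center_SU_iff hF hn _).1 h
  refine ⟨c, ?_⟩
  rw [hc, Matrix.smul_one_eq_diagonal]
  rfl

theorem sm_one : sm (1 : SU n F q) = 1 := rfl

theorem sm_mul (s t : SU n F q) : sm (s * t) = sm s * sm t := rfl

theorem sm_pow (t : SU n F q) (k : ℕ) : sm (t ^ k) = sm t ^ k := by
  induction k with
  | zero => rfl
  | succ k ih => rw [pow_succ, sm_mul, ih, pow_succ]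

theorem pw_of_mat {s t : SU n F q} {c : F} (hc1 : c ^ n = 1) (hc2 : c ^ (q + 1) = 1) {k : ℕ}
    (h : sm s * sm t = c • (sm t ^ k * sm s)) : Pw t k := by
  refine ⟨s, ?_⟩
  have h1 : pr (s * t) = pr (t ^ k * s) := by
    refine pr_eq_of_smul hc1 hc2 ?_
    rw [sm_mul, sm_mul, sm_pow, h]
  rw [map_mul, h1, map_mul, mul_assoc, ← map_mul, mul_inv_cancel, map_one, mul_one, map_pow]

theorem gpw_of_mat {g : GU n F q} {t : SU n F q} {c : F} (hc1 : c ^ n = 1) (hc2 : c ^ (q + 1) = 1)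
    {k : ℕ} (h : gm g * sm t = c • (sm t ^ k * gm g)) : GPw t k := by
  refine ⟨g, ?_⟩
  rw [← map_pow]
  refine pr_eq_of_smul hc1 hc2 ?_
  rw [sm_cg, h, Matrix.smul_mul, mul_assoc, gm_mul_inv, mul_one, sm_pow]

end Cfsg.Agent.H933.OZ.Orb
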