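import Cfsg.Agent.H933.OZ.Dat
import Cfsg.Agent.H933.OZ.OpsF

import Cfsg.Agent.S0280

/-!
# Orbit data for `PSU 4` over the field with `4` elements (helper933, for S4842; generated)
-/

set_option autoImplicit false

namespace Cfsg.Agent.H933.OZ.U42

open Cfsg Matrix Orb Cyc
open Cfsg.Agent.SporadicA.FieldFour F4

set_option maxRecDepth 100000

abbrev M := Matrix (Fin 4) (Fin 4) F4

theorem hF : Fintype.card F4 = 2 ^ 2 := rfl

theorem cs_spec : ∀ c : F4, c ^ 4 = 1 → c ^ (2 + 1) = 1 → c ∈ [o] := by decide +kernel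

theorem cs_norm : ∀ c ∈ [o], c ^ (2 + 1) = 1 := by decide +kernel

theorem card_G : Nat.card (PSU 4 F4 2) = 25920 := by
  have h := S0280.result hF 4 (by norm_num)
  norm_num [Finset.prod_range_succ] at h
  omega

def u4M : M := !![w, z, w, w; w, v, w, z; o, w, z, o; z, w, o, o]
theorem u4_un : u4Mᵀ * u4M.map cj4 = 1 := by decide +kernel
theorem u4_det : u4M.det = 1 := by decide +kernel
/-- element -/
def u4 : SU 4 F4 2 := mkSU cj4_eq u4M u4_un u4_det hF
theorem sm_u4 : sm u4 = u4M := rfl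

theorem u4_p1 : u4M ^ 1 = u4M := pow_one _
def u4M2 : M := !![o, z, o, v; z, o, w, o; o, v, z, v; w, o, w, z]
theorem u4_m2 : u4M * u4M = u4M2 := by decide +kernel
theorem u4_p2 : u4M ^ 2 = u4M2 :=
  (pow_add u4M 1 1).trans ((congrArg₂ (· * ·) u4_p1 u4_p1).trans u4_m2)
def u4M3 : M := !![v, v, o, z; z, w, v, v; v, v, z, o; v, z, o, o]
theorem u4_m3 : u4M2 * u4M = u4M3 := by decide +kernel
theorem u4_p3 : u4M ^ 3 = u4M3 :=
  (pow_add u4M 2 1).trans ((congrArg₂ (· * ·) u4_p2 u4_p1).trans u4_m3)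
def u4M4 : M := !![o, z, z, z; z, o, z, z; z, z, o, z; z, z, z, o]
theorem u4_m4 : u4M3 * u4M = u4M4 := by decide +kernel
theorem u4_p4 : u4M ^ 4 = u4M4 :=
  (pow_add u4M 3 1).trans ((congrArg₂ (· * ·) u4_p3 u4_p1).trans u4_m4)

theorem u4_pow : pr u4 ^ 4 = 1 := by
  rw [← map_pow, ← map_one pr]
  refine pr_eq_of_smul (c := o) (by decide +kernel) (by decide +kernel) ?_
  rw [sm_pow, sm_u4, u4_p4]
  decide +kernel

theorem u4_ne : pr u4 ^ 2 ≠ 1 := by
  intro h
  rw [← map_pow, ← map_one pr] at h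
  obtain ⟨c, hc⟩ := smul_of_pr_eq hF (by norm_num) h
  rw [sm_pow, sm_u4, u4_p2] at hc
  revert c
  decide +kernel

def u4E : M := !![z, w, v, z; z, z, o, v; z, o, v, o; o, o, z, o]
def u4E' : M := !![v, w, z, o; o, o, v, z; o, v, w, z; w, v, v, z]
def u4R : List (List F4) := [[.w, .z, .w, .w], [.w, .v, .w, .z], [.o, .w, .z, .o], [.z, .w, .o, .o]]
def u4tg : List (List F4) := [[.o, .o, .z, .o]]
theorem u4_card : Nat.card (GU 4 F4 2) ≤ 24 * (orb u4).card :=
  card_GU_le hF (by norm_num) u4 cs_spec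
    (card_le' law4 hF els4_spec (e := ![z, z, z, o]) (E := u4E) (E' := u4E') (by decide +kernel) (by decide +kernel)
      (by decide +kernel) cs_norm (R := u4R) (by decide +kernel) (tg := u4tg) (by decide +kernel)
      (by decide +kernel))

def u4S3 : M := !![z, v, z, z; w, z, z, z; z, z, o, z; z, z, z, o]
theorem u4_w3 : Pw u4 3 :=
  pw_of_mat (s := mkSU cj4_eq u4S3 (by decide +kernel) (by decide +kernel) hF) (c := o)
    (by decide +kernel) (by decide +kernel) (by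
      rw [sm_u4, u4_p3]
      decide +kernel)

theorem u4_rw : ∀ j < 4, j.Coprime 4 → Pw u4 j := by
  intro j hj hc
  interval_cases j
  · exact absurd hc (by decide)
  · exact Pw.mod u4_pow (Pw.one _) rfl
  · exact absurd hc (by decide)
  · exact Pw.mod u4_pow u4_w3 rfl

theorem u4_rat : Rat u4 := Rat.of (N := 4) (by rw [card_G]; decide) (by norm_num) u4_pow u4_rw

theorem u4_dat : Dat u4 (2 ^ 2) 24 :=
  Dat.of (N := 4) (by rw [card_G]; decide) (by norm_num) u4_pow u4_card fun j hj hc => Or.inl (u4_rw j hj hc)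

def t9M : M := !![o, v, v, z; z, v, v, v; o, z, v, v; o, v, z, v]
theorem t9_un : t9Mᵀ * t9M.map cj4 = 1 := by decide +kernel
theorem t9_det : t9M.det = 1 := by decide +kernel
/-- element -/
def t9 : SU 4 F4 2 := mkSU cj4_eq t9M t9_un t9_det hF
theorem sm_t9 : sm t9 = t9M := rfl

theorem t9_p1 : t9M ^ 1 = t9M := pow_one _
def t9M2 : M := !![w, o, v, z; z, z, z, w; o, o, o, z; w, v, o, z]
theorem t9_m2 : t9M * t9M = t9M2 := by decide +kernel
theorem t9_p2 : t9M ^ 2 = t9M2 :=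
  (pow_add t9M 1 1).trans ((congrArg₂ (· * ·) t9_p1 t9_p1).trans t9_m2)
def t9M3 : M := !![o, w, z, o; w, o, z, o; z, z, v, z; v, v, z, o]
theorem t9_m3 : t9M2 * t9M = t9M3 := by decide +kernel
theorem t9_p3 : t9M ^ 3 = t9M3 :=
  (pow_add t9M 2 1).trans ((congrArg₂ (· * ·) t9_p2 t9_p1).trans t9_m3)
def t9M4 : M := !![z, o, w, w; v, o, w, z; v, z, w, w; w, v, z, o]
theorem t9_m4 : t9M3 * t9M = t9M4 := by decide +kernel
theorem t9_p4 : t9M ^ 4 = t9M4 :=
  (pow_add t9M 3 1).trans ((congrArg₂ (· * ·) t9_p3 t9_p1).trans t9_m4)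
def t9M6 : M := !![o, v, z, w; v, o, z, w; z, z, w, z; o, o, z, o]
theorem t9_m6 : t9M4 * t9M2 = t9M6 := by decide +kernel
theorem t9_p6 : t9M ^ 6 = t9M6 :=
  (pow_add t9M 4 2).trans ((congrArg₂ (· * ·) t9_p4 t9_p2).trans t9_m6)
def t9M9 : M := !![o, z, z, z; z, o, z, z; z, z, o, z; z, z, z, o]
theorem t9_m9 : t9M6 * t9M3 = t9M9 := by decide +kernel
theorem t9_p9 : t9M ^ 9 = t9M9 :=
  (pow_add t9M 6 3).trans ((congrArg₂ (· * ·) t9_p6 t9_p3).trans t9_m9)

theorem t9_pow : pr t9 ^ 9 = 1 := by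
  rw [← map_pow, ← map_one pr]
  refine pr_eq_of_smul (c := o) (by decide +kernel) (by decide +kernel) ?_
  rw [sm_pow, sm_t9, t9_p9]
  decide +kernel

theorem t9_ne : pr t9 ^ 3 ≠ 1 := by
  intro h
  rw [← map_pow, ← map_one pr] at h
  obtain ⟨c, hc⟩ := smul_of_pr_eq hF (by norm_num) h
  rw [sm_pow, sm_t9, t9_p3] at hc
  revert c
  decide +kernel

def t9E : M := !![z, z, z, o; z, v, w, o; z, v, z, z; o, v, z, o]
def t9E' : M := !![o, z, o, o; z, z, w, z; v, v, v, z; o, z, z, z]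
def t9R : List (List F4) := [[.o, .v, .v, .z], [.z, .v, .v, .v], [.o, .z, .v, .v], [.o, .v, .z, .v]]
def t9tg : List (List F4) := [[.o, .w, .z, .o]]
theorem t9_card : Nat.card (GU 4 F4 2) ≤ 27 * (orb t9).card :=
  card_GU_le hF (by norm_num) t9 cs_spec
    (card_le' law4 hF els4_spec (e := ![z, z, z, o]) (E := t9E) (E' := t9E') (by decide +kernel) (by decide +kernel)
      (by decide +kernel) cs_norm (R := t9R) (by decide +kernel) (tg := t9tg) (by decide +kernel)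
      (by decide +kernel))

def t9S4 : M := !![o, w, w, z; o, z, w, o; z, v, v, w; o, w, z, o]
theorem t9_w4 : Pw t9 4 :=
  pw_of_mat (s := mkSU cj4_eq t9S4 (by decide +kernel) (by decide +kernel) hF) (c := o)
    (by decide +kernel) (by decide +kernel) (by
      rw [sm_t9, t9_p4]
      decide +kernel)

theorem t9_rw : ∀ j < 9, j.Coprime 9 → Pw t9 j ∨ Pw t9 (9 - j) := by
  intro j hj hc
  interval_cases j
  · exact absurd hc (by decide)
  · exact Or.inl (Pw.mod t9_pow (Pw.one _) rfl)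
  · exact Or.inr (Pw.mod t9_pow (t9_w4.mul t9_w4) rfl)
  · exact absurd hc (by decide)
  · exact Or.inl (Pw.mod t9_pow t9_w4 rfl)
  · exact Or.inr (Pw.mod t9_pow t9_w4 rfl)
  · exact absurd hc (by decide)
  · exact Or.inl (Pw.mod t9_pow (t9_w4.mul t9_w4) rfl)
  · exact Or.inr (Pw.mod t9_pow (Pw.one _) rfl)

theorem t9_dat : Dat t9 (3 ^ 2) 27 :=
  Dat.of (N := 9) (by rw [card_G]; decide) (by norm_num) t9_pow t9_card t9_rw

def y6M : M := !![o, o, w, z; o, z, w, w; z, v, o, o; v, v, z, o]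
theorem y6_un : y6Mᵀ * y6M.map cj4 = 1 := by decide +kernel
theorem y6_det : y6M.det = 1 := by decide +kernel
/-- element -/
def y6 : SU 4 F4 2 := mkSU cj4_eq y6M y6_un y6_det hF
theorem sm_y6 : sm y6 = y6M := rfl

theorem y6_p1 : y6M ^ 1 = y6M := pow_one _
def y6M2 : M := !![z, z, w, z; z, o, z, z; z, z, z, o; v, z, z, z]
theorem y6_m2 : y6M * y6M = y6M2 := by decide +kernel
theorem y6_p2 : y6M ^ 2 = y6M2 :=
  (pow_add y6M 1 1).trans ((congrArg₂ (· * ·) y6_p1 y6_p1).trans y6_m2)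
def y6M3 : M := !![z, o, w, w; o, z, w, w; v, v, z, o; v, v, o, z]
theorem y6_m3 : y6M2 * y6M = y6M3 := by decide +kernel
theorem y6_p3 : y6M ^ 3 = y6M3 :=
  (pow_add y6M 2 1).trans ((congrArg₂ (· * ·) y6_p2 y6_p1).trans y6_m3)
def y6M5 : M := !![o, o, z, w; o, z, w, w; v, v, o, z; z, v, o, o]
theorem y6_m5 : y6M3 * y6M2 = y6M5 := by decide +kernel
theorem y6_p5 : y6M ^ 5 = y6M5 :=
  (pow_add y6M 3 2).trans ((congrArg₂ (· * ·) y6_p3 y6_p2).trans y6_m5)
def y6M6 : M := !![o, z, z, z; z, o, z, z; z, z, o, z; z, z, z, o]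
theorem y6_m6 : y6M5 * y6M = y6M6 := by decide +kernel
theorem y6_p6 : y6M ^ 6 = y6M6 :=
  (pow_add y6M 5 1).trans ((congrArg₂ (· * ·) y6_p5 y6_p1).trans y6_m6)

theorem y6_pow : pr y6 ^ 6 = 1 := by
  rw [← map_pow, ← map_one pr]
  refine pr_eq_of_smul (c := o) (by decide +kernel) (by decide +kernel) ?_
  rw [sm_pow, sm_y6, y6_p6]
  decide +kernel

theorem y6_ne : pr y6 ^ 2 ≠ 1 := by
  intro h
  rw [← map_pow, ← map_one pr] at h
  obtain ⟨c, hc⟩ := smul_of_pr_eq hF (by norm_num) h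
  rw [sm_pow, sm_y6, y6_p2] at hc
  revert c
  decide +kernel

def y6E : M := !![z, z, z, w; z, w, z, w; z, o, o, o; o, o, z, z]
def y6E' : M := !![v, v, z, o; v, v, z, z; z, v, o, z; v, z, z, z]
def y6R : List (List F4) := [[.o, .o, .w, .z], [.o, .z, .w, .w], [.z, .v, .o, .o], [.v, .v, .z, .o]]
def y6tg : List (List F4) := [[.o, .o, .z, .z]]
theorem y6_card : Nat.card (GU 4 F4 2) ≤ 54 * (orb y6).card :=
  card_GU_le hF (by norm_num) y6 cs_spec
    (card_le' law4 hF els4_spec (e := ![z, z, z, o]) (E := y6E) (E' := y6E') (by decide +kernel) (by decide +kernel)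
      (by decide +kernel) cs_norm (R := y6R) (by decide +kernel) (tg := y6tg) (by decide +kernel)
      (by decide +kernel))

def y6S5 : M := !![z, z, w, z; z, o, z, z; v, z, z, z; z, z, z, o]
theorem y6_w5 : Pw y6 5 :=
  pw_of_mat (s := mkSU cj4_eq y6S5 (by decide +kernel) (by decide +kernel) hF) (c := o)
    (by decide +kernel) (by decide +kernel) (by
      rw [sm_y6, y6_p5]
      decide +kernel)

theorem y6_rw : ∀ j < 6, j.Coprime 6 → Pw y6 j := by
  intro j hj hc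
  interval_cases j
  · exact absurd hc (by decide)
  · exact Pw.mod y6_pow (Pw.one _) rfl
  · exact absurd hc (by decide)
  · exact absurd hc (by decide)
  · exact absurd hc (by decide)
  · exact Pw.mod y6_pow y6_w5 rfl

theorem y6_rat : Rat y6 := Rat.of (N := 6) (by rw [card_G]; decide) (by norm_num) y6_pow y6_rw

theorem y6_dat : Dat y6 6 54 :=
  Dat.of (N := 6) (by rw [card_G]; decide) (by norm_num) y6_pow y6_card fun j hj hc => Or.inl (y6_rw j hj hc)

def a1M : M := !![z, v, o, w; w, o, z, v; o, z, o, w; v, w, v, z]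
theorem a1_un : a1Mᵀ * a1M.map cj4 = 1 := by decide +kernel
theorem a1_det : a1M.det = 1 := by decide +kernel
/-- element -/
def a1 : SU 4 F4 2 := mkSU cj4_eq a1M a1_un a1_det hF
theorem sm_a1 : sm a1 = a1M := rfl

def a2M : M := !![o, o, w, z; o, o, z, w; v, z, o, o; z, v, o, o]
theorem a2_un : a2Mᵀ * a2M.map cj4 = 1 := by decide +kernel
theorem a2_det : a2M.det = 1 := by decide +kernel
/-- element -/
def a2 : SU 4 F4 2 := mkSU cj4_eq a2M a2_un a2_det hF
theorem sm_a2 : sm a2 = a2M := rfl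

def b1M : M := !![w, o, z, v; z, v, o, w; v, w, v, z; o, z, o, w]
theorem b1_un : b1Mᵀ * b1M.map cj4 = 1 := by decide +kernel
theorem b1_det : b1M.det = 1 := by decide +kernel
/-- element -/
def b1 : SU 4 F4 2 := mkSU cj4_eq b1M b1_un b1_det hF
theorem sm_b1 : sm b1 = b1M := rfl

def b2M : M := !![o, z, v, v; z, o, v, v; w, w, z, o; w, w, o, z]
theorem b2_un : b2Mᵀ * b2M.map cj4 = 1 := by decide +kernel
theorem b2_det : b2M.det = 1 := by decide +kernel
/-- element -/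
def b2 : SU 4 F4 2 := mkSU cj4_eq b2M b2_un b2_det hF
theorem sm_b2 : sm b2 = b2M := rfl

def t9I : M := !![o, z, o, o; w, w, z, w; w, w, w, z; z, w, w, w]

/-- the transvection -/
def zz : SU 4 F4 2 := y6 ^ 3

theorem sm_zz : sm zz = y6M3 := by
  rw [zz, sm_pow, sm_y6, y6_p3]

theorem zz_sq : zz * zz = 1 := by
  apply sm_inj
  simp only [sm_mul, sm_one, sm_zz, sm_a1, sm_a2, sm_b1, sm_b2]
  decide +kernel

theorem a1_sq : a1 * a1 = 1 := by
  apply sm_inj
  simp only [sm_mul, sm_one, sm_zz, sm_a1, sm_a2, sm_b1, sm_b2]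
  decide +kernel

theorem a2_sq : a2 * a2 = 1 := by
  apply sm_inj
  simp only [sm_mul, sm_one, sm_zz, sm_a1, sm_a2, sm_b1, sm_b2]
  decide +kernel

theorem zz_a1 : zz * a1 = a1 * zz := by
  apply sm_inj
  simp only [sm_mul, sm_one, sm_zz, sm_a1, sm_a2, sm_b1, sm_b2]
  decide +kernel

theorem zz_a2 : zz * a2 = a2 * zz := by
  apply sm_inj
  simp only [sm_mul, sm_one, sm_zz, sm_a1, sm_a2, sm_b1, sm_b2]
  decide +kernel

theorem a1_a2 : a1 * a2 = a2 * a1 := by
  apply sm_inj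
  simp only [sm_mul, sm_one, sm_zz, sm_a1, sm_a2, sm_b1, sm_b2]
  decide +kernel

theorem b1_a1 : b1 * a1 = zz * a1 * b1 := by
  apply sm_inj
  simp only [sm_mul, sm_one, sm_zz, sm_a1, sm_a2, sm_b1, sm_b2]
  decide +kernel

theorem b1_a2 : b1 * a2 = a2 * b1 := by
  apply sm_inj
  simp only [sm_mul, sm_one, sm_zz, sm_a1, sm_a2, sm_b1, sm_b2]
  decide +kernel

theorem b2_a2 : b2 * a2 = zz * a2 * b2 := by
  apply sm_inj
  simp only [sm_mul, sm_one, sm_zz, sm_a1, sm_a2, sm_b1, sm_b2]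
  decide +kernel

theorem b2_a1 : b2 * a1 = a1 * b2 := by
  apply sm_inj
  simp only [sm_mul, sm_one, sm_zz, sm_a1, sm_a2, sm_b1, sm_b2]
  decide +kernel

theorem zz_b1 : zz * b1 = b1 * zz := by
  apply sm_inj
  simp only [sm_mul, sm_one, sm_zz, sm_a1, sm_a2, sm_b1, sm_b2]
  decide +kernel

theorem zz_b2 : zz * b2 = b2 * zz := by
  apply sm_inj
  simp only [sm_mul, sm_one, sm_zz, sm_a1, sm_a2, sm_b1, sm_b2]
  decide +kernel

theorem t9_inv {y : PSU 4 F4 2} (hy : y ∈ orb t9) : y⁻¹ ∉ orb t9 := by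
  have h1 : t9⁻¹ = mkSU cj4_eq t9I (by decide +kernel) (by decide +kernel) hF := by
    rw [inv_eq_iff_mul_eq_one]
    apply sm_inj
    change t9M * t9I = 1
    decide +kernel
  refine inv_notMem hF (by norm_num) ?_ hy
  rw [h1]
  change ∀ c : F4, c ^ 4 = 1 → c ^ (2 + 1) = 1 → t9M.trace ≠ c * t9I.trace
  decide +kernel

end Cfsg.Agent.H933.OZ.U42
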